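import Groth.Agent.Lib.InertiaGen28.Unramified
import Groth.Agent.Lib.Pur25.BranchLocal
import Groth.Agent.Lib.VarDim.Alg
import Groth.Agent.S18265
import Mathlib.RingTheory.Invariant.Basic
import Mathlib.RingTheory.Ideal.Height
import Mathlib.RingTheory.Unramified.LocalRing
import Mathlib.LinearAlgebra.LinearIndependent.Basic

/-!
# The inertia groups of the height one primes generate (regular base, same residue field)
-/

set_option autoImplicit false
set_option linter.style.haveILetI false

universe v w

open IsLocalRing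
open scoped Pointwise

namespace Groth.Agent.InertiaGen28

theorem smul_mem_smul_iff {A : Type v} [CommRing A] {H : Type w} [Group H] [MulSemiringAction H A]
    (h : H) (P : Ideal A) (a : A) : h • a ∈ h • P ↔ a ∈ P := Ideal.smul_mem_pointwise_smul_iff

theorem height_smul {A : Type v} [CommRing A] {H : Type w} [Group H] [MulSemiringAction H A]
    (h : H) (P : Ideal A) : (h • P).height = P.height := by
  have : h • P = P.map (MulSemiringAction.toRingEquiv H A h) := Ideal.pointwise_smul_def (a := h) (S := P)
  rw [this]; exact RingEquiv.height_map _ _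

theorem iSup_inertia_eq_top {R A : Type v} [CommRing R] [IsRegularLocalRing R]
    [CommRing A] [IsDomain A] [IsIntegrallyClosed A] [IsLocalRing A]
    [Algebra R A] [Module.Finite R A] (hinj : Function.Injective (algebraMap R A))
    (hres : Function.Surjective (IsLocalRing.residue A ∘ algebraMap R A))
    (H : Type w) [Group H] [Finite H] [MulSemiringAction H A] [SMulCommClass H R A] [FaithfulSMul H A]
    (hfix : ∀ a : A, (∀ h : H, h • a = a) → a ∈ Set.range (algebraMap R A)) :
    (⨆ P : {P : Ideal A // P.IsPrime ∧ P.height = 1}, P.1.inertia H) = ⊤ := by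
  classical
  set H' : Subgroup H := ⨆ P : {P : Ideal A // P.IsPrime ∧ P.height = 1}, P.1.inertia H with hH'
  have hle : ∀ P : Ideal A, P.IsPrime → P.height = 1 → P.inertia H ≤ H' := fun P h1 h2 =>
    le_iSup (fun P : {P : Ideal A // P.IsPrime ∧ P.height = 1} => P.1.inertia H) ⟨P, h1, h2⟩
  have hnorm : H'.Normal := ⟨fun n hn g => by
    refine Subgroup.iSup_induction _ (C := fun n => g * n * g⁻¹ ∈ H') hn (fun P n hn => ?_) ?_ ?_
    · obtain ⟨P, hP, hh⟩ := P
      haveI := hP
      refine hle (g • P) inferInstance ((height_smul g P).trans hh) ?_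
      rw [AddSubgroup.mem_inertia] at hn ⊢
      intro x
      show (g * n * g⁻¹) • x - x ∈ g • P
      have : (g * n * g⁻¹) • x - x = g • (n • (g⁻¹ • x) - g⁻¹ • x) := by
        rw [smul_sub, smul_inv_smul, mul_smul, mul_smul]
      rw [this, smul_mem_smul_iff]
      exact hn _
    · simp
    · intro x y hx hy
      have := H'.mul_mem hx hy
      simpa [mul_assoc] using this⟩
  let S : Subalgebra R A :=
    { carrier := {a | ∀ h ∈ H', h • a = a}
      one_mem' := fun h _ => smul_one h
      mul_mem' := fun ha hb h hh => by rw [smul_mul', ha h hh, hb h hh]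
      zero_mem' := fun h _ => smul_zero h
      add_mem' := fun ha hb h hh => by rw [smul_add, ha h hh, hb h hh]
      algebraMap_mem' := fun r h _ => smul_algebraMap h r }
  have hstab : ∀ (g : H) (a : A), a ∈ S → g • a ∈ S := fun g a ha h hh => by
    have hm : g⁻¹ * h * g ∈ H' := by simpa using hnorm.conj_mem h hh g⁻¹
    calc h • g • a = g • ((g⁻¹ * h * g) • a) := by rw [← mul_smul, ← mul_smul]; group
      _ = g • a := by rw [ha _ hm]
  haveI := hnorm
  letI actH : MulSemiringAction H S :=
    { smul := fun g a => ⟨g • (a : A), hstab g a a.2⟩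
      one_smul := fun a => Subtype.ext (one_smul H (a : A))
      mul_smul := fun g h a => Subtype.ext (mul_smul g h (a : A))
      smul_zero := fun g => Subtype.ext (smul_zero g)
      smul_add := fun g a b => Subtype.ext (smul_add g (a : A) b)
      smul_one := fun g => Subtype.ext (smul_one g)
      smul_mul := fun g a b => Subtype.ext (smul_mul' g (a : A) b) }
  let ψ : H ⧸ H' →* (S ≃+* S) := QuotientGroup.lift H' (MulSemiringAction.toRingAut H S)
    (fun h hh => RingEquiv.ext fun a => Subtype.ext (a.2 h hh))
  letI actQ : MulSemiringAction (H ⧸ H') S := MulSemiringAction.compHom S ψ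
  have hinv : ∀ a : S, (∀ q : H ⧸ H', q • a = a) → a ∈ Set.range (algebraMap R S) := fun a ha => by
    obtain ⟨r, hr⟩ := hfix (a : A) (fun h => congrArg Subtype.val (ha (h : H ⧸ H')))
    exact ⟨r, Subtype.ext hr⟩
  -- basic properties of `S`
  haveI : IsNoetherian R A := isNoetherian_of_isNoetherianRing_of_finite R A
  haveI hSfin : Module.Finite R S := Module.Finite.equiv (LinearEquiv.refl R (Subalgebra.toSubmodule S))
  haveI : Algebra.IsIntegral R S := Algebra.IsIntegral.of_finite R S
  haveI : Algebra.IsIntegral R A := Algebra.IsIntegral.of_finite R A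
  haveI : Algebra.IsIntegral S A := Algebra.IsIntegral.tower_top R
  have hunit : ∀ a : S, IsUnit (a : A) → IsUnit a := fun a ha => by
    obtain ⟨b, hb⟩ := ha.exists_right_inv
    refine IsUnit.of_mul_eq_one (⟨b, fun h hh => ?_⟩ : S) (Subtype.ext hb)
    refine ha.mul_left_cancel ?_
    rw [hb]
    conv_lhs => rw [← a.2 h hh, ← smul_mul', hb, smul_one]
  haveI : IsLocalRing S := IsLocalRing.of_isUnit_or_isUnit_one_sub_self fun a =>
    (IsLocalRing.isUnit_or_isUnit_one_sub_self (a : A)).imp (hunit a) (fun h => hunit (1 - a) h)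
  haveI : IsIntegrallyClosed S :=
    S18265.isIntegrallyClosed_of_div_closed S.val.toRingHom Subtype.val_injective fun a b c hb hc => by
      refine ⟨⟨c, fun h hh => ?_⟩, rfl⟩
      have hb0 : (b : A) ≠ 0 := fun e => hb (Subtype.ext e)
      have hc' : c * (b : A) = a := hc
      refine mul_right_cancel₀ hb0 ?_
      rw [hc']
      have := congrArg (h • ·) hc'
      simp only [smul_mul', a.2 h hh, b.2 h hh] at this
      exact this
  -- `S = R`
  suffices hSR : ∀ a ∈ S, a ∈ Set.range (algebraMap R A) by
    refine (Subgroup.eq_top_iff' _).mpr fun g => ?_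
    by_contra hg
    cases nonempty_fintype H
    let φ : H → (A →* A) := fun h => MulSemiringAction.toRingHom H A h
    have hφ : Function.Injective φ := fun a b e => eq_of_smul_eq_smul fun x => DFunLike.congr_fun e x
    have hli := (linearIndependent_monoidHom A A).comp φ hφ
    let U : Finset H := Finset.univ.filter (fun h => h ∈ H') |>.map ⟨id, Function.injective_id⟩
    have hU : ∀ h, h ∈ U ↔ h ∈ H' := fun h => by simp [U]
    let V : Finset H := U.image (g * ·)
    have hUV : Disjoint U V := Finset.disjoint_left.mpr fun h hh hV => by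
      obtain ⟨y, hy, rfl⟩ := Finset.mem_image.mp hV
      exact hg ((H'.mul_mem_cancel_right ((hU y).mp hy)).mp ((hU _).mp hh))
    have hzero : ∑ h ∈ U ∪ V, (if h ∈ U then (1 : A) else -1) • (fun h => ⇑(φ h)) h = 0 := by
      funext a
      rw [Finset.sum_apply, Finset.sum_union hUV]
      have h1 : ∑ h ∈ U, h • a ∈ S := fun y hy => by
        rw [Finset.smul_sum]
        refine Finset.sum_nbij' (y * ·) (y⁻¹ * ·) ?_ ?_ ?_ ?_ ?_
        · intro h hh; exact (hU _).mpr (H'.mul_mem hy ((hU h).mp hh))
        · intro h hh; exact (hU _).mpr (H'.mul_mem (H'.inv_mem hy) ((hU h).mp hh))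
        · intro h _; simp
        · intro h _; simp
        · intro h _; exact (mul_smul y h a).symm
      obtain ⟨r, hr⟩ := hSR _ h1
      have h2 : ∑ h ∈ V, h • a = ∑ h ∈ U, h • a := by
        rw [Finset.sum_image fun x _ y _ e => mul_left_cancel e]
        simp only [mul_smul, ← Finset.smul_sum, ← hr, smul_algebraMap]
      rw [Finset.sum_congr rfl (g := fun h => h • a) (fun h hh => by simp [φ, hh]),
        Finset.sum_congr rfl (s₁ := V) (g := fun h => -(h • a))
          (fun h hh => by simp [φ, Finset.disjoint_right.mp hUV hh]), Finset.sum_neg_distrib, h2]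
      simp
    have h1U : (1 : H) ∈ U := (hU 1).mpr H'.one_mem
    have := linearIndependent_iff'.mp hli (U ∪ V) _ hzero 1 (Finset.mem_union_left _ h1U)
    simp [h1U] at this
  -- `S` is unramified over `R` and has the same residue field
  have hresS : ∀ a : A, ∃ r, a - algebraMap R A r ∈ maximalIdeal A := fun a => by
    obtain ⟨r, hr⟩ := hres (IsLocalRing.residue A a)
    refine ⟨r, (IsLocalRing.residue_eq_zero_iff _).mp ?_⟩
    rw [map_sub, ← hr]; exact sub_self _
  by_cases h1 : (1 : WithBot ℕ∞) ≤ ringKrullDim S
  swap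
  · -- dimension zero
    intro a _
    have hdim0 : ringKrullDim R ≤ 0 := by
      rw [← VarDim.ringKrullDim_eq_of_isIntegral (R := R) (S := S) fun a b e => hinj (congrArg Subtype.val e)]
      exact Order.le_of_lt_succ (not_le.mp h1)
    haveI : Ring.KrullDimLE 0 R := (Ring.krullDimLE_iff (n := 0)).mpr (by simpa using hdim0)
    haveI := RegLoc.isDomain R
    have hA : IsField A := isField_of_isIntegral_of_isField' (R := R) Ring.KrullDimLE.isField_of_isDomain
    obtain ⟨r, hr⟩ := hresS a
    refine ⟨r, ?_⟩
    rw [(IsLocalRing.isField_iff_maximalIdeal_eq).mp hA, Ideal.mem_bot, sub_eq_zero] at hr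
    exact hr.symm
  have hunrS : Algebra.FormallyUnramified R S := by
    haveI : Module.Finite R (⊤ : Subalgebra R S) :=
      Module.Finite.equiv (Subalgebra.topEquiv (R := R) (A := S)).toLinearEquiv.symm
    refine (Pur25.flat_unramified_of_codim_one (⊤ : Subalgebra R S)
      (fun z => ⟨⟨z, Algebra.mem_top⟩, ⟨1, Algebra.mem_top⟩, isUnit_one, mul_one z⟩)
      (VarDim.ringKrullDim_eq_of_isIntegral (R := R) (S := S) fun a b e => hinj (congrArg Subtype.val e)) h1
      (fun Q hQ hQ1 => ?_)).2
    haveI := hQ
    refine formallyUnramified_of_inertia (G := H ⧸ H') hinv Q ?_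
    rw [eq_bot_iff]
    intro q hq
    induction q using QuotientGroup.induction_on with
    | _ g =>
      rw [Subgroup.mem_bot, QuotientGroup.eq_one_iff]
      have hg : ∀ s : S, g • (s : A) - (s : A) ∈ Subtype.val '' (Q : Set S) := fun s =>
        ⟨g • s - s, AddSubgroup.mem_inertia.mp hq s, rfl⟩
      -- a prime above
      haveI : Algebra.IsInvariant S A H' := ⟨fun a ha => ⟨⟨a, fun h hh => ha ⟨h, hh⟩⟩, rfl⟩⟩
      haveI : SMulCommClass H' S A := ⟨fun h s a => by
        show (h : H) • ((s : A) * a) = (s : A) * (h : H) • a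
        rw [smul_mul', s.2 h h.2]⟩
      obtain ⟨P, hP, hPQ⟩ := Ideal.exists_ideal_over_prime_of_isIntegral_of_isDomain (S := A) Q
        (fun x hx => by rw [show x = 0 from Subtype.ext hx]; exact Q.zero_mem)
      haveI := hP
      -- `P` has height one
      have hmemQ : ∀ s : S, (s : A) ∈ P ↔ s ∈ Q := fun s => by rw [← hPQ]; rfl
      have hP1 : P.height = 1 := by
        refine le_antisymm ?_ (ENat.one_le_iff_ne_zero.mpr fun h0 => ?_)
        · have h := Order.height_le_height_apply_of_strictMono _
            (VarDim.strictMono_comap_of_isIntegral (R := S) (S := A)) (⟨P, hP⟩ : PrimeSpectrum A)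
          rw [← PrimeSpectrum.height_eq_orderHeight, ← PrimeSpectrum.height_eq_orderHeight] at h
          change P.height ≤ (P.comap (algebraMap S A)).height at h
          rwa [hPQ, hQ1] at h
        · have hPbot : P = ⊥ := by
            by_contra hne
            have hlt : (⟨⊥, Ideal.isPrime_bot⟩ : PrimeSpectrum A) < ⟨P, hP⟩ := (PrimeSpectrum.asIdeal_lt_asIdeal _ _).mp (bot_lt_iff_ne_bot.mpr hne)
            have hh := Order.height_add_one_le hlt
            rw [← PrimeSpectrum.height_eq_orderHeight, ← PrimeSpectrum.height_eq_orderHeight] at hh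
            rw [h0] at hh
            simp at hh
          have hQbot : Q = ⊥ := eq_bot_iff.mpr fun s hs => by
            have := (hmemQ s).mpr hs
            rw [hPbot, Ideal.mem_bot] at this
            rw [Ideal.mem_bot]; exact Subtype.ext this
          rw [hQbot, Ideal.height_bot] at hQ1
          exact zero_ne_one hQ1
      have hgQ : ∀ s : S, g • s - s ∈ Q := fun s => AddSubgroup.mem_inertia.mp hq s
      -- adjust `g` to fix `P`
      have hunder : (g • P).under S = P.under S := by
        ext s
        show (s : A) ∈ g • P ↔ (s : A) ∈ P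
        rw [Ideal.mem_pointwise_smul_iff_inv_smul_mem]
        have h1 : g⁻¹ • s - s ∈ Q := by
          have := hgQ (g⁻¹ • s)
          rw [smul_inv_smul] at this
          simpa using Q.neg_mem this
        show ((g⁻¹ • s : S) : A) ∈ P ↔ _
        rw [hmemQ, hmemQ]
        refine ⟨fun h => ?_, fun h => ?_⟩
        · simpa using Q.sub_mem h h1
        · simpa using Q.add_mem h1 h
      obtain ⟨h, hh⟩ := Algebra.IsInvariant.exists_smul_of_under_eq S A H' (g • P) P hunder
      set g1 : H := (h : H) * g with hg1
      have hg1P : g1 • P = P := by rw [hg1, mul_smul]; exact hh.symm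
      have hg1Q : ∀ s : S, g1 • (s : A) - (s : A) ∈ P := fun s => by
        have h2 : (g1 • (s : A)) = ((g • s : S) : A) := by
          rw [hg1, mul_smul]; exact (g • s).2 h h.2
        rw [h2]
        exact (hmemQ (g • s - s)).mpr (hgQ s)
      haveI : P.LiesOver Q := ⟨hPQ.symm⟩
      let f : (A ⧸ P) ≃ₐ[S ⧸ Q] (A ⧸ P) := AlgEquiv.ofRingEquiv
        (f := Ideal.quotientEquiv P P (MulSemiringAction.toRingEquiv H A g1)
          (by conv_lhs => rw [← hg1P]
              exact Ideal.pointwise_smul_def (a := g1) (S := P)))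
        (fun x => by
          obtain ⟨x, rfl⟩ := Ideal.Quotient.mk_surjective x
          show Ideal.Quotient.mk P (g1 • (x : A)) = Ideal.Quotient.mk P (x : A)
          exact Ideal.Quotient.eq.mpr (hg1Q x))
      obtain ⟨σ, hσ⟩ := Ideal.Quotient.stabilizerHom_surjective H' Q P f
      have hσP : (σ.1 : H) • P = P := σ.2
      have hin : (σ.1 : H)⁻¹ * g1 ∈ P.inertia H := by
        rw [AddSubgroup.mem_inertia]
        intro a
        have h3 : g1 • a - (σ.1 : H) • a ∈ P := by
          have := AlgEquiv.congr_fun hσ (Ideal.Quotient.mk P a)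
          exact Ideal.Quotient.eq.mp this.symm
        show ((σ.1 : H)⁻¹ * g1) • a - a ∈ P
        rw [← smul_mem_smul_iff (σ.1 : H), hσP, smul_sub, ← mul_smul, mul_inv_cancel_left]
        exact h3
      have hmem := hle P hP hP1 hin
      have hg1mem : g1 ∈ H' := by simpa using H'.mul_mem σ.1.2 hmem
      simpa [hg1] using H'.mul_mem (H'.inv_mem h.2) hg1mem
  haveI := hunrS
  haveI : IsLocalHom (algebraMap R S) := ⟨fun r hr => by
    by_contra hr'
    obtain ⟨P, hP, hPc⟩ := Ideal.exists_ideal_over_prime_of_isIntegral_of_isDomain (S := S) (maximalIdeal R)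
      (fun x hx => by
        rw [show x = 0 from hinj (by simpa using congrArg Subtype.val (show algebraMap R S x = 0 from hx))]
        exact (maximalIdeal R).zero_mem)
    haveI := hP
    have : algebraMap R S r ∈ P := Ideal.mem_comap.mp (hPc.symm ▸ (mem_maximalIdeal r).mpr hr')
    exact hP.ne_top (Ideal.eq_top_of_isUnit_mem _ this hr)⟩
  have hmap : (maximalIdeal R).map (algebraMap R S) = maximalIdeal S := Algebra.FormallyUnramified.map_maximalIdeal
  have htop : (⊤ : Submodule R S) ≤ LinearMap.range (Algebra.linearMap R S) := by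
    refine Submodule.le_of_le_smul_of_le_jacobson_bot Module.Finite.fg_top
      (IsLocalRing.jacobson_eq_maximalIdeal ⊥ bot_ne_top).ge fun s _ => ?_
    obtain ⟨r, hr⟩ := hresS (s : A)
    have hs : s - algebraMap R S r ∈ maximalIdeal S := by
      rw [mem_maximalIdeal]
      exact fun hu => (mem_maximalIdeal _).mp hr (hu.map S.val)
    rw [← hmap] at hs
    have hs' : s - algebraMap R S r ∈ (maximalIdeal R • ⊤ : Submodule R S) := by
      rw [Ideal.smul_top_eq_map]; exact hs
    refine Submodule.mem_sup.mpr ⟨algebraMap R S r, ⟨r, rfl⟩, _, hs', by ring⟩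
  intro a ha
  obtain ⟨r, hr⟩ := htop (Submodule.mem_top (x := (⟨a, ha⟩ : S)))
  exact ⟨r, congrArg Subtype.val hr⟩

end Groth.Agent.InertiaGen28
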