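import Groth.Agent.Lib.WildQuotH28.NotFlat
import Mathlib.RingTheory.Unramified.Basic
import Mathlib.RingTheory.Kaehler.Basic
import Mathlib.RingTheory.Localization.AtPrime.Basic
import Mathlib.Tactic.LinearCombination
import Mathlib.Tactic.Module

/-!
# Trivial inertia implies unramified over the invariants
-/

set_option autoImplicit false
set_option linter.style.haveILetI false

universe u v w

namespace Groth.Agent.InertiaGen28

variable {R : Type u} [CommRing R] {A : Type v} [CommRing A] [Algebra R A] {G : Type w} [Group G] [Finite G]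
  [MulSemiringAction G A]

theorem formallyUnramified_of_inertia (hinv : ∀ a : A, (∀ g : G, g • a = a) → a ∈ Set.range (algebraMap R A))
    (P : Ideal A) [P.IsPrime] (hP : P.inertia G = ⊥) :
    Algebra.FormallyUnramified R (Localization.AtPrime P) := by
  classical
  cases nonempty_fintype G
  obtain ⟨f, hf, hf1, hf0⟩ := WildQuotH28.exists_orbit_separate P hP (1 : G) (Finset.univ.erase 1)
    (Finset.notMem_erase _ _)
  obtain ⟨c, hc⟩ := (Finsupp.mem_span_range_iff_exists_finsupp).1 hf
  -- c : x ↦ c x
  set t := f 1 with ht
  have hsum : ∀ g : G, ∑ x ∈ c.support, c x * g • x = f g := fun g => by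
    have := congrFun hc g
    rw [Finsupp.sum, Finset.sum_apply] at this
    simpa using this
  let Tr : A → A := fun a => ∑ g : G, g • a
  have hTr : ∀ a, Tr a ∈ Set.range (algebraMap R A) := fun a => hinv _ fun σ => by
    simp only [Tr, Finset.smul_sum, ← mul_smul]
    exact Fintype.sum_equiv (Equiv.mulLeft σ) _ _ fun g => rfl
  have hret : ∀ a : A, ∑ x ∈ c.support, Tr (a * c x) * x = t * a := by
    intro a
    simp only [Tr, Finset.sum_mul]
    rw [Finset.sum_comm, Finset.sum_eq_single (1 : G)]
    · rw [ht, ← hsum 1, Finset.sum_mul]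
      exact Finset.sum_congr rfl fun x _ => by rw [one_smul, one_smul]; ring
    · intro g _ hg
      have h2 := congrArg (g • ·) ((hsum g⁻¹).trans (hf0 g⁻¹ (by simpa using hg)))
      simp only [Finset.smul_sum, smul_mul', smul_inv_smul, smul_zero] at h2
      calc ∑ x ∈ c.support, g • (a * c x) * x = g • a * ∑ x ∈ c.support, g • c x * x := by
            rw [Finset.mul_sum]
            exact Finset.sum_congr rfl fun x _ => by rw [smul_mul', mul_assoc]
        _ = 0 := by rw [h2, mul_zero]
    · simp
  constructor
  let D := KaehlerDifferential.D R (Localization.AtPrime P)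
  let ι := algebraMap A (Localization.AtPrime P)
  have hDR : ∀ y ∈ Set.range (algebraMap R A), D (ι y) = 0 := by
    rintro _ ⟨r, rfl⟩
    show D (ι (algebraMap R A r)) = 0
    rw [show ι (algebraMap R A r) = algebraMap R _ r from (IsScalarTower.algebraMap_apply R A _ r).symm]
    exact D.map_algebraMap r
  -- `D (t b) = ∑ Tr (b c_y) D y`
  have hDt : ∀ b : A, ι t • D (ι b) + ι b • D (ι t) = ∑ y ∈ c.support, ι (Tr (b * c y)) • D (ι y) := by
    intro b
    have h := congrArg (fun z => D (ι z)) (hret b)
    simp only [map_sum, map_mul, Derivation.leibniz] at h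
    rw [← h]
    refine Finset.sum_congr rfl fun y _ => ?_
    rw [hDR _ (hTr _), smul_zero, add_zero]
  -- insert the coefficients
  have hkey : ∀ a : A, ι t • (∑ x ∈ c.support, ι (c x) • D (ι (a * x))) + ι (t * a) • D (ι t) =
      ι (t * a) • ∑ y ∈ c.support, ι (c y) • D (ι y) := by
    intro a
    have h1 : ∑ x ∈ c.support, ι (c x) • (ι t • D (ι (a * x)) + ι (a * x) • D (ι t)) =
        ∑ y ∈ c.support, ∑ x ∈ c.support, ι (c x * Tr (a * x * c y)) • D (ι y) := by
      rw [Finset.sum_comm]
      exact Finset.sum_congr rfl fun x _ => by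
        rw [hDt, Finset.smul_sum]
        exact Finset.sum_congr rfl fun y _ => by rw [smul_smul, ← map_mul]
    have h2 : ∀ y, ∑ x ∈ c.support, c x * Tr (a * x * c y) = t * (a * c y) := by
      intro y
      simp only [Tr, Finset.mul_sum]
      rw [Finset.sum_comm, Finset.sum_eq_single (1 : G)]
      · rw [ht, ← hsum 1, Finset.sum_mul]
        exact Finset.sum_congr rfl fun x _ => by rw [one_smul, one_smul]; ring
      · intro g _ hg
        have := (hsum g).trans (hf0 g (by simpa using hg))
        calc ∑ x ∈ c.support, c x * g • (a * x * c y) =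
              (∑ x ∈ c.support, c x * g • x) * g • (a * c y) := by
              rw [Finset.sum_mul]
              exact Finset.sum_congr rfl fun x _ => by simp only [smul_mul']; ring
          _ = 0 := by rw [this, zero_mul]
      · simp
    have h3 : ∑ y ∈ c.support, ∑ x ∈ c.support, ι (c x * Tr (a * x * c y)) • D (ι y) =
        ι (t * a) • ∑ y ∈ c.support, ι (c y) • D (ι y) := by
      rw [Finset.smul_sum]
      refine Finset.sum_congr rfl fun y _ => ?_
      rw [← Finset.sum_smul, ← map_sum, h2, smul_smul, ← map_mul, mul_assoc]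
    rw [← h3, ← h1]
    simp only [smul_add, Finset.sum_add_distrib, Finset.smul_sum, smul_smul]
    congr 1
    · exact Finset.sum_congr rfl fun x _ => by rw [mul_comm]
    · rw [← Finset.sum_smul]
      congr 1
      have : t * a = ∑ x ∈ c.support, c x * (a * x) := by
        rw [ht, ← hsum 1, Finset.sum_mul]
        exact Finset.sum_congr rfl fun x _ => by rw [one_smul]; ring
      rw [this, map_sum]
      exact Finset.sum_congr rfl fun x _ => by rw [map_mul]
  have htu : IsUnit (ι t) := IsLocalization.map_units _ (⟨t, hf1⟩ : P.primeCompl)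
  have hDι : ∀ a : A, D (ι a) = 0 := by
    intro a
    have e1 : ι t • D (ι t) = 0 := by
      have := hkey 1
      simp only [one_mul, mul_one, map_mul, map_one] at this
      simpa using this
    have e2 : ∑ x ∈ c.support, ι (c x) • D (ι (a * x)) =
        ι a • (∑ x ∈ c.support, ι (c x) • D (ι x)) + ι t • D (ι a) := by
      have h5 : ι t = ∑ x ∈ c.support, ι (c x) * ι x := by
        rw [ht, ← hsum 1, map_sum]
        exact Finset.sum_congr rfl fun x _ => by rw [one_smul, map_mul]
      rw [h5, Finset.sum_smul, Finset.smul_sum, ← Finset.sum_add_distrib]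
      refine Finset.sum_congr rfl fun x _ => ?_
      rw [map_mul, Derivation.leibniz, smul_add, smul_smul, smul_smul, smul_smul, mul_comm (ι a)]
    have h3 := hkey a
    rw [e2, map_mul] at h3
    have h4 : (ι t * ι t) • D (ι a) = 0 := by
      rw [smul_add, smul_smul, smul_smul, mul_comm (ι t) (ι a), ← smul_smul (ι a) (ι t) (D (ι t)), e1, smul_zero,
        add_zero, add_eq_left] at h3
      exact h3
    exact (htu.mul htu).smul_eq_zero.mp h4
  have hD : ∀ z : Localization.AtPrime P, D z = 0 := by
    intro z
    obtain ⟨⟨a, s⟩, h⟩ := IsLocalization.surj P.primeCompl z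
    have h' := congrArg D h
    rw [Derivation.leibniz, hDι, hDι, smul_zero, zero_add] at h'
    exact (IsLocalization.map_units (Localization.AtPrime P) s).smul_eq_zero.mp h'
  refine ⟨fun x y => ?_⟩
  have htop := KaehlerDifferential.span_range_derivation R (Localization.AtPrime P)
  have hz : ∀ z : Ω[Localization.AtPrime P⁄R], z = 0 := fun z => by
    have hz : z ∈ Submodule.span (Localization.AtPrime P) (Set.range D) := by rw [htop]; trivial
    induction hz using Submodule.span_induction with
    | mem z hz => obtain ⟨w, rfl⟩ := hz; exact hD w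
    | zero => rfl
    | add a b _ _ ha hb => rw [ha, hb, add_zero]
    | smul r b _ hb => rw [hb, smul_zero]
  rw [hz x, hz y]

end Groth.Agent.InertiaGen28
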